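import Groth.Prelude.Def_KZero
import Mathlib.CategoryTheory.Abelian.CommSq
import Mathlib.Algebra.Homology.ShortComplex.ShortExact
import Mathlib.CategoryTheory.Limits.Shapes.Countable

/-!
Dévissage for `K₀` with possibly infinite, locally finite filtrations.
-/

set_option autoImplicit false
set_option linter.unusedSectionVars false
set_option linter.style.haveILetI false

universe w v u

open CategoryTheory CategoryTheory.Limits

noncomputable section

namespace Groth.Agent.K0Dev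

variable {A : Type u} [Category.{v} A] [Abelian A]

/-! ### Classes -/

section Classes

variable (P : ObjectProperty A)

lemma cl_add {S : ShortComplex A} (hS : S.ShortExact) (h₁ : P S.X₁) (h₂ : P S.X₂) (h₃ : P S.X₃) :
    KZero.clSub P S.X₂ = KZero.clSub P S.X₁ + KZero.clSub P S.X₃ := by
  rw [KZero.clSub, KZero.clSub, KZero.clSub, dif_pos h₁, dif_pos h₂, dif_pos h₃, ← sub_eq_zero, ← sub_sub,
    ← QuotientAddGroup.mk_sub, ← QuotientAddGroup.mk_sub, QuotientAddGroup.eq_zero_iff]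
  exact AddSubgroup.subset_closure ⟨S, h₁, h₂, h₃, hS, rfl⟩

variable {P}

lemma shortExact_of_iso {X Y Z : A} (e : X ≅ Y) (hZ : IsZero Z) :
    (ShortComplex.mk e.hom (0 : Y ⟶ Z) comp_zero).ShortExact :=
  { exact := (ShortComplex.exact_iff_epi _ rfl).2 (inferInstanceAs (Epi e.hom))
    mono_f := inferInstanceAs (Mono e.hom)
    epi_g := ⟨fun _ _ _ => hZ.eq_of_src _ _⟩ }

lemma cl_zero {Z : A} (hZ : IsZero Z) : KZero.clSub P Z = 0 := by
  by_cases h : P Z
  · have e := cl_add P (shortExact_of_iso (Iso.refl Z) hZ) h h h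
    exact left_eq_add.mp e
  · exact dif_neg h

lemma cl_iso (hiso : ∀ ⦃X Y : A⦄, (X ≅ Y) → P X → P Y) (hzero : ∀ X : A, IsZero X → P X) {X Y : A} (e : X ≅ Y) :
    KZero.clSub P X = KZero.clSub P Y := by
  by_cases h : P X
  · have hY : P Y := hiso e h
    have hz : IsZero (kernel (𝟙 X)) := isZero_kernel_of_mono _
    have := cl_add P (shortExact_of_iso e hz) h hY (hzero _ hz)
    rw [this, cl_zero hz, add_zero]
  · have hY : ¬ P Y := fun hY => h (hiso e.symm hY)
    rw [KZero.clSub, KZero.clSub, dif_neg h, dif_neg hY]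

end Classes

/-- The ambient data: the big class `Q`, the small class `P`, and the local vanishing classes `N t`. -/
structure Setup (A : Type u) [Category.{v} A] [Abelian A] (T : Type w) where
  P : ObjectProperty A
  Q : ObjectProperty A
  N : T → ObjectProperty A
  le : ∀ X, P X → Q X
  iso_P : ∀ ⦃X Y : A⦄, (X ≅ Y) → P X → P Y
  iso_Q : ∀ ⦃X Y : A⦄, (X ≅ Y) → Q X → Q Y
  zero_P : ∀ X : A, IsZero X → P X
  ker_Q : ∀ ⦃X Y : A⦄ (f : X ⟶ Y), Q X → Q Y → Q (kernel f)
  coker_Q : ∀ ⦃X Y : A⦄ (f : X ⟶ Y), Q X → Q Y → Q (cokernel f)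
  pull_Q : ∀ ⦃X Y G : A⦄ (f : X ⟶ G) (g : Y ⟶ G), Q X → Q Y → Q G → Q (pullback f g)
  sub_P : ∀ ⦃X Y : A⦄ (f : X ⟶ Y) [Mono f], Q X → P Y → P X
  quot_P : ∀ ⦃X Y : A⦄ (f : X ⟶ Y) [Epi f], Q Y → P X → P Y
  zero_N : ∀ t (X : A), IsZero X → N t X
  sub_N : ∀ t ⦃X Y : A⦄ (f : X ⟶ Y) [Mono f], N t Y → N t X
  quot_N : ∀ t ⦃X Y : A⦄ (f : X ⟶ Y) [Epi f], N t X → N t Y
  sum_N : ∀ t (X : ℕ → A) [HasCoproduct X], (∀ n, N t (X n)) → N t (∐ X)
  sum_Q : ∀ (X : ℕ → A) [HasCoproduct X], (∀ n, Q (X n)) → (∀ t, ∃ b, ∀ n, b ≤ n → N t (X n)) → Q (∐ X)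
  sum_P : ∀ (X : ℕ → A) [HasCoproduct X], (∀ n, P (X n)) → (∀ t, ∃ b, ∀ n, b ≤ n → N t (X n)) → P (∐ X)
  mono_map : ∀ (X Y : ℕ → A) [HasCoproduct X] [HasCoproduct Y] (φ : ∀ n, X n ⟶ Y n),
    (∀ n, Mono (φ n)) → Mono (Limits.Sigma.map φ)

variable {T : Type w} (D : Setup A T) [HasCoproductsOfShape ℕ A]

/-- Local finiteness. -/
def Summable (X : ℕ → A) : Prop := ∀ t, ∃ b, ∀ n, b ≤ n → D.N t (X n)

variable {D}

lemma Summable.of_mono {X Y : ℕ → A} (h : Summable D Y) (f : ∀ n, X n ⟶ Y n) (hf : ∀ n, Mono (f n)) :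
    Summable D X := fun t => (h t).imp fun _ hb n hn => haveI := hf n; D.sub_N t (f n) (hb n hn)

lemma Summable.of_epi {X Y : ℕ → A} (h : Summable D X) (f : ∀ n, X n ⟶ Y n) (hf : ∀ n, Epi (f n)) :
    Summable D Y := fun t => (h t).imp fun _ hb n hn => haveI := hf n; D.quot_N t (f n) (hb n hn)

lemma Summable.shift {X : ℕ → A} (h : Summable D X) : Summable D fun n => X (n + 1) :=
  fun t => (h t).imp fun _ hb n hn => hb (n + 1) (by omega)

/-- Coproducts of short exact sequences. -/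
lemma shortExact_sigma (D : Setup A T) (S : ℕ → ShortComplex A) (hS : ∀ n, (S n).ShortExact) :
    (ShortComplex.mk (Limits.Sigma.map fun n => (S n).f) (Limits.Sigma.map fun n => (S n).g)
      (by ext n; simp [(S n).zero])).ShortExact := by
  haveI := fun n => (hS n).epi_g
  haveI hg : Epi (Limits.Sigma.map fun n => (S n).g) := ⟨fun {W} u v h => Sigma.hom_ext _ _ fun n => by
    rw [← cancel_epi (S n).g]
    simpa using Sigma.ι (fun n => (S n).X₂) n ≫= h⟩
  refine { exact := ShortComplex.exact_of_g_is_cokernel _ ?_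
           mono_f := D.mono_map _ _ _ fun n => (hS n).mono_f
           epi_g := hg }
  refine CokernelCofork.IsColimit.ofπ' _ _ fun {W} k hk => ?_
  refine ⟨Sigma.desc fun n => (hS n).exact.desc (Sigma.ι (fun n => (S n).X₂) n ≫ k)
    (by simpa using Sigma.ι (fun n => (S n).X₁) n ≫= hk), ?_⟩
  ext n
  simp

/-- Splitting off the first term. -/
lemma shortExact_head (X : ℕ → A) : ∃ (g : ∐ X ⟶ ∐ fun n => X (n + 1)) (w : Sigma.ι X 0 ≫ g = 0),
    (ShortComplex.mk (Sigma.ι X 0) g w).ShortExact := by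
  let π : ∐ X ⟶ X 0 := Sigma.desc fun n => match n with | 0 => 𝟙 _ | _ + 1 => 0
  let g : ∐ X ⟶ ∐ fun n => X (n + 1) := Sigma.desc fun n => match n with
    | 0 => 0
    | m + 1 => Sigma.ι (fun n => X (n + 1)) m
  have w : Sigma.ι X 0 ≫ g = 0 := by simp [g]
  refine ⟨g, w, ShortComplex.Splitting.shortExact ⟨π, Sigma.desc fun m => Sigma.ι X (m + 1), ?_, ?_, ?_⟩⟩
  · simp [π]
  · ext m; simp [g]
  · ext n
    cases n <;> simp [π, g]

variable (D) in
/-- A locally finite filtration of `G` with quotients in `P`. -/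
structure Fil (G : A) where
  F : ℕ → A
  mem : ∀ n, D.Q (F n)
  f : ∀ n, F (n + 1) ⟶ F n
  mono : ∀ n, Mono (f n)
  e : F 0 ≅ G
  summable : Summable D F
  quot : ∀ n, D.P (cokernel (f n))

namespace Fil

variable {G : A} (Φ : Fil D G)

attribute [instance] Fil.mono

/-- The inclusion of a step. -/
def j : ∀ n, Φ.F n ⟶ G
  | 0 => Φ.e.hom
  | n + 1 => Φ.f n ≫ j n

instance mono_j : ∀ n, Mono (Φ.j n)
  | 0 => inferInstanceAs (Mono Φ.e.hom)
  | n + 1 => by
    haveI := mono_j n
    exact inferInstanceAs (Mono (Φ.f n ≫ Φ.j n))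

lemma j_succ (n : ℕ) : Φ.j (n + 1) = Φ.f n ≫ Φ.j n := rfl

/-- The associated graded. -/
abbrev gr : A := ∐ fun n => cokernel (Φ.f n)

lemma summable_quot : Summable D fun n => cokernel (Φ.f n) :=
  Φ.summable.of_epi (fun n => cokernel.π (Φ.f n)) fun _ => inferInstance

lemma mem_gr : D.P Φ.gr := D.sum_P _ Φ.quot Φ.summable_quot

/-- A class containing all the terms identifies `G` with its associated graded: the swindle. -/
theorem cl_gr (R : ObjectProperty A) (hiso : ∀ ⦃X Y : A⦄, (X ≅ Y) → R X → R Y) (hzero : ∀ X : A, IsZero X → R X)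
    (h0 : ∀ n, R (Φ.F n)) (hsum : ∀ X : ℕ → A, (∀ n, R (X n)) → Summable D X → R (∐ X))
    (hgr : R Φ.gr) : KZero.clSub R G = KZero.clSub R Φ.gr := by
  let S : ℕ → ShortComplex A := fun n => ShortComplex.mk (Φ.f n) (cokernel.π _) (cokernel.condition _)
  have hS : ∀ n, (S n).ShortExact := fun n =>
    { exact := ShortComplex.exact_of_g_is_cokernel _ (cokernelIsCokernel _)
      mono_f := Φ.mono n }
  have h1 : R (∐ fun n => Φ.F (n + 1)) := hsum _ (fun n => h0 _) Φ.summable.shift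
  have h2 : R (∐ Φ.F) := hsum _ h0 Φ.summable
  have e1 := cl_add R (shortExact_sigma D S hS) h1 h2 hgr
  obtain ⟨g, w, hh⟩ := shortExact_head Φ.F
  have e2 := cl_add R hh (h0 0) h2 h1
  dsimp [S] at e1 e2
  rw [e2, add_comm, add_right_inj] at e1
  exact (cl_iso hiso hzero Φ.e.symm).trans e1

end Fil

lemma mem_Q_image {X Y : A} (f : X ⟶ Y) (hX : D.Q X) (hY : D.Q Y) : D.Q (Abelian.image f) :=
  D.ker_Q _ hY (D.coker_Q _ hX hY)

lemma mem_Q_base {G : A} (Φ : Fil D G) : D.Q G := D.iso_Q Φ.e (Φ.mem 0)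

/-! ### Refinement -/

section Zassenhaus

variable {G : A} (S Φ : Fil D G)

/-- `S_a ∩ F_b`. -/
abbrev cap (a b : ℕ) : A := pullback (S.j a) (Φ.j b)

/-- Decrease `a`. -/
def capL (a b : ℕ) : cap S Φ (a + 1) b ⟶ cap S Φ a b :=
  pullback.lift (pullback.fst _ _ ≫ S.f a) (pullback.snd _ _) (by
    rw [Category.assoc, ← S.j_succ, pullback.condition])

/-- Decrease `b`. -/
def capR (a b : ℕ) : cap S Φ a (b + 1) ⟶ cap S Φ a b :=
  pullback.lift (pullback.fst _ _) (pullback.snd _ _ ≫ Φ.f b) (by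
    rw [Category.assoc, ← Φ.j_succ, pullback.condition])

@[reassoc (attr := simp)] lemma capL_fst (a b : ℕ) : capL S Φ a b ≫ pullback.fst _ _ = pullback.fst _ _ ≫ S.f a :=
  pullback.lift_fst _ _ _
@[reassoc (attr := simp)] lemma capL_snd (a b : ℕ) : capL S Φ a b ≫ pullback.snd _ _ = pullback.snd _ _ :=
  pullback.lift_snd _ _ _
@[reassoc (attr := simp)] lemma capR_fst (a b : ℕ) : capR S Φ a b ≫ pullback.fst _ _ = pullback.fst _ _ :=
  pullback.lift_fst _ _ _
@[reassoc (attr := simp)] lemma capR_snd (a b : ℕ) : capR S Φ a b ≫ pullback.snd _ _ = pullback.snd _ _ ≫ Φ.f b :=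
  pullback.lift_snd _ _ _

/-- A piece of the common refinement. -/
abbrev piece (a b : ℕ) : A := cokernel (biprod.desc (capL S Φ a b) (capR S Φ a b))

/-- The pieces are symmetrical. -/
def pieceSymm (a b : ℕ) : piece S Φ a b ≅ piece Φ S b a :=
  cokernel.mapIso _ _ (biprod.braiding' _ _ ≪≫ biprod.mapIso (pullbackSymmetry _ _) (pullbackSymmetry _ _))
    (pullbackSymmetry _ _) (by
      apply biprod.hom_ext' <;> apply pullback.hom_ext <;> simp)

/-- `S_a ∩ F_b → S_a / S_{a+1}`. -/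
def toQuot (a b : ℕ) : cap S Φ a b ⟶ cokernel (S.f a) := pullback.fst _ _ ≫ cokernel.π _

/-- The induced filtration of `S_a / S_{a+1}`. -/
abbrev indF (a b : ℕ) : A := Abelian.image (toQuot S Φ a b)

/-- The induced filtration, maps. -/
def indf (a b : ℕ) : indF S Φ a (b + 1) ⟶ indF S Φ a b :=
  kernel.lift _ (Abelian.image.ι (toQuot S Φ a (b + 1))) (by
    refine (cancel_epi (Abelian.factorThruImage (toQuot S Φ a (b + 1)))).1 ?_
    rw [comp_zero, ← Category.assoc, Abelian.image.fac,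
      show toQuot S Φ a (b + 1) = capR S Φ a b ≫ toQuot S Φ a b by simp [toQuot], Category.assoc,
      cokernel.condition, comp_zero])

lemma indf_ι (a b : ℕ) : indf S Φ a b ≫ Abelian.image.ι (toQuot S Φ a b) = Abelian.image.ι _ :=
  kernel.lift_ι _ _ _

instance mono_indf (a b : ℕ) : Mono (indf S Φ a b) := by
  haveI : Mono (indf S Φ a b ≫ Abelian.image.ι (toQuot S Φ a b)) := by rw [indf_ι]; infer_instance
  exact mono_of_mono _ (Abelian.image.ι (toQuot S Φ a b))

lemma fac_indf (a b : ℕ) : Abelian.factorThruImage (toQuot S Φ a (b + 1)) ≫ indf S Φ a b =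
    capR S Φ a b ≫ Abelian.factorThruImage (toQuot S Φ a b) := by
  refine (cancel_mono (Abelian.image.ι (toQuot S Φ a b))).1 ?_
  rw [Category.assoc, indf_ι, Category.assoc, Abelian.image.fac, Abelian.image.fac]
  simp [toQuot]

lemma capL_factor (a b : ℕ) {W : A} (w : W ⟶ cap S Φ a b) (hw : w ≫ toQuot S Φ a b = 0) :
    ∃ l : W ⟶ cap S Φ (a + 1) b, l ≫ capL S Φ a b = w := by
  let E : ShortComplex A := ShortComplex.mk (S.f a) (cokernel.π _) (cokernel.condition _)
  have hE : E.Exact := ShortComplex.exact_of_g_is_cokernel _ (cokernelIsCokernel _)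
  haveI : Mono E.f := S.mono a
  have h0 : (w ≫ pullback.fst _ _) ≫ cokernel.π (S.f a) = 0 := by simpa [toQuot] using hw
  let l₁ : W ⟶ S.F (a + 1) := hE.lift (w ≫ pullback.fst _ _) h0
  have hl₁ : l₁ ≫ S.f a = w ≫ pullback.fst _ _ := hE.lift_f _ h0
  refine ⟨pullback.lift l₁ (w ≫ pullback.snd _ _) (by
    rw [S.j_succ, reassoc_of% hl₁, Category.assoc, pullback.condition]), pullback.hom_ext ?_ ?_⟩
  · rw [Category.assoc, capL_fst]
    exact (pullback.lift_fst_assoc _ _ _ _).trans hl₁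
  · rw [Category.assoc, capL_snd]
    exact pullback.lift_snd _ _ _

/-- The quotients of the induced filtration are the pieces. -/
def pieceIso (a b : ℕ) : piece S Φ a b ≅ cokernel (indf S Φ a b) := by
  let q := toQuot S Φ a b
  let fwd : piece S Φ a b ⟶ cokernel (indf S Φ a b) :=
    cokernel.desc _ (Abelian.factorThruImage q ≫ cokernel.π _) (by
      apply biprod.hom_ext'
      · rw [biprod.inl_desc_assoc, comp_zero]
        have : capL S Φ a b ≫ Abelian.factorThruImage q = 0 := by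
          refine (cancel_mono (Abelian.image.ι q)).1 ?_
          rw [Category.assoc, Abelian.image.fac, zero_comp]
          simp [q, toQuot]
        rw [reassoc_of% this, zero_comp]
      · rw [biprod.inr_desc_assoc, comp_zero, ← Category.assoc, ← fac_indf, Category.assoc, cokernel.condition,
          comp_zero])
  have hk : kernel.ι (Abelian.factorThruImage q) ≫ cokernel.π (biprod.desc (capL S Φ a b) (capR S Φ a b)) = 0 := by
    obtain ⟨l, hl⟩ := capL_factor S Φ a b (kernel.ι (Abelian.factorThruImage q)) (by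
      rw [← Abelian.image.fac (toQuot S Φ a b), ← Category.assoc, kernel.condition, zero_comp])
    have h1 := biprod.inl ≫= cokernel.condition (biprod.desc (capL S Φ a b) (capR S Φ a b))
    rw [biprod.inl_desc_assoc, comp_zero] at h1
    rw [← hl, Category.assoc, h1, comp_zero]
  have hE : (ShortComplex.mk (kernel.ι (Abelian.factorThruImage q)) (Abelian.factorThruImage q)
      (kernel.condition _)).Exact := ShortComplex.exact_of_f_is_kernel _ (kernelIsKernel _)
  let d : indF S Φ a b ⟶ piece S Φ a b := hE.desc _ hk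
  have hd : Abelian.factorThruImage q ≫ d = cokernel.π _ := hE.g_desc _ hk
  let bwd : cokernel (indf S Φ a b) ⟶ piece S Φ a b := cokernel.desc _ d (by
    refine (cancel_epi (Abelian.factorThruImage (toQuot S Φ a (b + 1)))).1 ?_
    have h1 := biprod.inr ≫= cokernel.condition (biprod.desc (capL S Φ a b) (capR S Φ a b))
    rw [biprod.inr_desc_assoc, comp_zero] at h1
    rw [comp_zero, ← Category.assoc, fac_indf, Category.assoc, hd]
    exact h1)
  refine ⟨fwd, bwd, ?_, ?_⟩
  · refine coequalizer.hom_ext ?_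
    simp [fwd, bwd, hd]
  · refine coequalizer.hom_ext ?_
    refine (cancel_epi (Abelian.factorThruImage q)).1 ?_
    simp [fwd, bwd, reassoc_of% hd]

/-- `S_a ∩ F_0 = S_a`. -/
lemma indF_zero (a : ℕ) : Nonempty (indF S Φ a 0 ≅ cokernel (S.f a)) := by
  haveI : IsIso (pullback.fst (S.j a) (Φ.j 0)) := by
    haveI : IsIso (Φ.j 0) := inferInstanceAs (IsIso Φ.e.hom)
    infer_instance
  haveI : Epi (toQuot S Φ a 0) := epi_comp _ _
  haveI : Epi (Abelian.factorThruImage (toQuot S Φ a 0) ≫ Abelian.image.ι (toQuot S Φ a 0)) := by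
    rw [Abelian.image.fac]; infer_instance
  haveI : Epi (Abelian.image.ι (toQuot S Φ a 0)) := epi_of_epi (Abelian.factorThruImage (toQuot S Φ a 0)) _
  haveI : IsIso (Abelian.image.ι (toQuot S Φ a 0)) := isIso_of_mono_of_epi _
  exact ⟨asIso (Abelian.image.ι (toQuot S Φ a 0))⟩

lemma vanish_indF_right {t : T} {a b : ℕ} (h : D.N t (Φ.F b)) : D.N t (indF S Φ a b) :=
  D.quot_N t (Abelian.factorThruImage (toQuot S Φ a b)) (D.sub_N t (pullback.snd _ _ : cap S Φ a b ⟶ Φ.F b) h)

lemma mem_indF (a b : ℕ) : D.P (indF S Φ a b) :=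
  D.sub_P (Abelian.image.ι (toQuot S Φ a b))
    (mem_Q_image _ (D.pull_Q _ _ (S.mem a) (Φ.mem b) (mem_Q_base S)) (D.le _ (S.quot a))) (S.quot a)

lemma mem_piece (a b : ℕ) : D.P (piece S Φ a b) :=
  D.iso_P (pieceIso S Φ a b).symm (D.quot_P (cokernel.π (indf S Φ a b))
    (D.coker_Q _ (D.le _ (mem_indF S Φ a (b + 1))) (D.le _ (mem_indF S Φ a b))) (mem_indF S Φ a b))

lemma summable_piece (a : ℕ) : Summable D fun b => piece S Φ a b := fun t =>
  (Φ.summable t).imp fun _ hb b hn =>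
    D.sub_N t (pieceIso S Φ a b).hom (D.quot_N t (cokernel.π (indf S Φ a b)) (vanish_indF_right S Φ (hb b hn)))

/-- The filtration of `gr S` induced by `Φ`. -/
def grFil : Fil D S.gr where
  F b := ∐ fun a => indF S Φ a b
  mem b := D.le _ (D.sum_P _ (fun a => mem_indF S Φ a b)
    (S.summable_quot.of_mono (fun a => Abelian.image.ι (toQuot S Φ a b)) fun _ => inferInstance))
  f b := Limits.Sigma.map fun a => indf S Φ a b
  mono b := D.mono_map _ _ _ fun a => mono_indf S Φ a b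
  e := Limits.Sigma.mapIso fun a => (indF_zero S Φ a).some
  summable t := (Φ.summable t).imp fun _ hb b hn => D.sum_N t _ fun a => vanish_indF_right S Φ (hb b hn)
  quot b := by
    let E : ℕ → ShortComplex A := fun a => ShortComplex.mk (indf S Φ a b) (cokernel.π _) (cokernel.condition _)
    have hE : ∀ a, (E a).ShortExact := fun a =>
      { exact := ShortComplex.exact_of_g_is_cokernel _ (cokernelIsCokernel _)
        mono_f := mono_indf S Φ a b }
    have hs := shortExact_sigma D E hE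
    haveI := hs.epi_g
    have hP : ∀ b, D.P (∐ fun a => indF S Φ a b) := fun b => D.sum_P _ (fun a => mem_indF S Φ a b)
      (S.summable_quot.of_mono (fun a => Abelian.image.ι (toQuot S Φ a b)) fun _ => inferInstance)
    exact D.quot_P (cokernel.π _) (D.coker_Q _ (D.le _ (hP (b + 1))) (D.le _ (hP b))) (hP b)

/-- The associated graded of the induced filtration is the sum of the pieces. -/
lemma grFil_gr : Nonempty ((grFil S Φ).gr ≅ ∐ fun b => ∐ fun a => piece S Φ a b) := by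
  refine ⟨Limits.Sigma.mapIso fun b => ?_⟩
  let E : ℕ → ShortComplex A := fun a => ShortComplex.mk (indf S Φ a b) (cokernel.π _) (cokernel.condition _)
  have hE : ∀ a, (E a).ShortExact := fun a =>
    { exact := ShortComplex.exact_of_g_is_cokernel _ (cokernelIsCokernel _)
      mono_f := mono_indf S Φ a b }
  exact (cokernelIsCokernel _).coconePointUniqueUpToIso (shortExact_sigma D E hE).gIsCokernel ≪≫
    (Limits.Sigma.mapIso fun a => (pieceIso S Φ a b).symm)

/-- The transpose of a double sum. -/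
def swapSum (X : ℕ → ℕ → A) : (∐ fun b => ∐ fun a => X a b) ≅ ∐ fun a => ∐ fun b => X a b where
  hom := Sigma.desc fun b => Sigma.desc fun a => Sigma.ι (fun b => X a b) b ≫ Sigma.ι (fun a => ∐ fun b => X a b) a
  inv := Sigma.desc fun a => Sigma.desc fun b => Sigma.ι (fun a => X a b) a ≫ Sigma.ι (fun b => ∐ fun a => X a b) b
  hom_inv_id := by ext b a; simp
  inv_hom_id := by ext a b; simp

include S Φ in
/-- Any two filtrations give the same class. -/
theorem cl_gr_eq : KZero.clSub D.P S.gr = KZero.clSub D.P Φ.gr := by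
  have key : ∀ S Φ : Fil D G, KZero.clSub D.P S.gr = KZero.clSub D.P (∐ fun b => ∐ fun a => piece S Φ a b) := by
    intro S Φ
    refine ((grFil S Φ).cl_gr D.P D.iso_P D.zero_P (fun b => D.sum_P _ (fun a => mem_indF S Φ a b)
      (S.summable_quot.of_mono (fun a => Abelian.image.ι (toQuot S Φ a b)) fun _ => inferInstance))
      (fun X hX hs => D.sum_P X hX hs) (grFil S Φ).mem_gr).trans (cl_iso D.iso_P D.zero_P (grFil_gr S Φ).some)
  rw [key S Φ, key Φ S]
  exact cl_iso D.iso_P D.zero_P (Limits.Sigma.mapIso (fun b => Limits.Sigma.mapIso fun a => pieceSymm S Φ a b) ≪≫ swapSum _)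

end Zassenhaus

/-! ### Short exact sequences -/

section Induced

variable {S : ShortComplex A} (hS : S.ShortExact) (Φ : Fil D S.X₂)

/-- Image in the quotient. -/
abbrev imF (n : ℕ) : A := Abelian.image (Φ.j n ≫ S.g)

/-- Kernel to the quotient. -/
abbrev keF (n : ℕ) : A := kernel (Abelian.factorThruImage (Φ.j n ≫ S.g))

/-- The maps of images. -/
def imf (n : ℕ) : imF Φ (n + 1) ⟶ imF Φ n :=
  kernel.lift _ (Abelian.image.ι (Φ.j (n + 1) ≫ S.g)) (by
    refine (cancel_epi (Abelian.factorThruImage (Φ.j (n + 1) ≫ S.g))).1 ?_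
    rw [comp_zero, ← Category.assoc, Abelian.image.fac, Φ.j_succ, Category.assoc (Φ.f n), Category.assoc,
      cokernel.condition, comp_zero])

lemma imf_ι (n : ℕ) : imf Φ n ≫ Abelian.image.ι (Φ.j n ≫ S.g) = Abelian.image.ι _ := kernel.lift_ι _ _ _

instance mono_imf (n : ℕ) : Mono (imf Φ n) := by
  haveI : Mono (imf Φ n ≫ Abelian.image.ι (Φ.j n ≫ S.g)) := by rw [imf_ι]; infer_instance
  exact mono_of_mono _ (Abelian.image.ι (Φ.j n ≫ S.g))

lemma fac_imf (n : ℕ) : Abelian.factorThruImage (Φ.j (n + 1) ≫ S.g) ≫ imf Φ n =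
    Φ.f n ≫ Abelian.factorThruImage (Φ.j n ≫ S.g) := by
  refine (cancel_mono (Abelian.image.ι (Φ.j n ≫ S.g))).1 ?_
  rw [Category.assoc, imf_ι, Category.assoc, Abelian.image.fac, Abelian.image.fac, Φ.j_succ, Category.assoc]

/-- The maps of kernels. -/
def kef (n : ℕ) : keF Φ (n + 1) ⟶ keF Φ n :=
  kernel.map _ _ (Φ.f n) (imf Φ n) (fac_imf Φ n)

instance mono_kef (n : ℕ) : Mono (kef Φ n) := by
  haveI : Mono (kef Φ n ≫ kernel.ι _) := by rw [kef, kernel.lift_ι]; infer_instance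
  exact mono_of_mono _ (kernel.ι _)

/-- The quotients form short exact sequences. -/
lemma shortExact_quot (n : ℕ) : ∃ (α : cokernel (kef Φ n) ⟶ cokernel (Φ.f n))
    (β : cokernel (Φ.f n) ⟶ cokernel (imf Φ n)) (w : α ≫ β = 0), (ShortComplex.mk α β w).ShortExact := by
  let p := Abelian.factorThruImage (Φ.j n ≫ S.g)
  let p' := Abelian.factorThruImage (Φ.j (n + 1) ≫ S.g)
  let β : cokernel (Φ.f n) ⟶ cokernel (imf Φ n) := cokernel.map _ _ p' p (fac_imf Φ n).symm
  have hsq : kef Φ n ≫ kernel.ι p = kernel.ι p' ≫ Φ.f n := kernel.lift_ι _ _ _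
  let α : cokernel (kef Φ n) ⟶ cokernel (Φ.f n) := cokernel.map _ _ (kernel.ι p') (kernel.ι p) hsq
  have hp : IsPullback (kef Φ n) (kernel.ι p') (kernel.ι p) (Φ.f n) :=
    IsPullback.of_isLimit (PullbackCone.IsLimit.mk hsq
      (fun s => kernel.lift p' s.snd (by
        refine (cancel_mono (imf Φ n)).1 ?_
        rw [Category.assoc, fac_imf, zero_comp, ← Category.assoc, ← s.condition, Category.assoc,
          kernel.condition, comp_zero]))
      (fun s => by
        refine (cancel_mono (kernel.ι p)).1 ?_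
        rw [Category.assoc, hsq, kernel.lift_ι_assoc, s.condition])
      (fun s => kernel.lift_ι _ _ _)
      (fun s m h₁ h₂ => by
        refine (cancel_mono (kernel.ι p')).1 ?_
        rw [h₂, kernel.lift_ι]))
  have w : α ≫ β = 0 := coequalizer.hom_ext (by simp [α, β])
  haveI : Epi β := by
    haveI : Epi (cokernel.π (Φ.f n) ≫ β) := by
      rw [cokernel.π_desc]
      exact epi_comp _ _
    exact epi_of_epi (cokernel.π (Φ.f n)) β
  have hE : (ShortComplex.mk (kernel.ι p) p (kernel.condition _)).Exact :=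
    ShortComplex.exact_of_f_is_kernel _ (kernelIsKernel _)
  refine ⟨α, β, w, { exact := ShortComplex.exact_of_g_is_cokernel _ ?_,
                     mono_f := Abelian.mono_cokernel_map_of_isPullback hp,
                     epi_g := inferInstance }⟩
  refine CokernelCofork.IsColimit.ofπ' _ _ fun {W} k hk => ?_
  have h0 : kernel.ι p ≫ cokernel.π (Φ.f n) ≫ k = 0 := by
    have := cokernel.π (kef Φ n) ≫= hk
    simpa [α] using this
  let d : imF Φ n ⟶ W := hE.desc _ h0
  have hd : p ≫ d = cokernel.π (Φ.f n) ≫ k := hE.g_desc _ h0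
  refine ⟨cokernel.desc _ d ?_, coequalizer.hom_ext ?_⟩
  · refine (cancel_epi p').1 ?_
    rw [comp_zero, ← Category.assoc, fac_imf, Category.assoc, hd, cokernel.condition_assoc, zero_comp]
  · simp [β, hd, p]

include hS in
lemma nonempty_imF_zero : Nonempty (imF Φ 0 ≅ S.X₃) := by
  haveI := hS.epi_g
  haveI : Epi (Φ.j 0 ≫ S.g) := by
    haveI : IsIso (Φ.j 0) := inferInstanceAs (IsIso Φ.e.hom)
    exact epi_comp _ _
  haveI : Epi (Abelian.factorThruImage (Φ.j 0 ≫ S.g) ≫ Abelian.image.ι (Φ.j 0 ≫ S.g)) := by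
    rw [Abelian.image.fac]; infer_instance
  haveI : Epi (Abelian.image.ι (Φ.j 0 ≫ S.g)) := epi_of_epi (Abelian.factorThruImage (Φ.j 0 ≫ S.g)) _
  haveI : IsIso (Abelian.image.ι (Φ.j 0 ≫ S.g)) := isIso_of_mono_of_epi _
  exact ⟨asIso (Abelian.image.ι (Φ.j 0 ≫ S.g))⟩

include hS in
lemma nonempty_keF_zero : Nonempty (keF Φ 0 ≅ S.X₁) := by
  haveI := hS.mono_f
  refine ⟨kernelIsoOfEq rfl ≪≫ (kernelCompMono (Abelian.factorThruImage (Φ.j 0 ≫ S.g))
    (Abelian.image.ι (Φ.j 0 ≫ S.g))).symm ≪≫ kernelIsoOfEq (Abelian.image.fac _) ≪≫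
    kernelIsIsoComp (Φ.e.hom) S.g ≪≫
    IsLimit.conePointUniqueUpToIso (kernelIsKernel S.g) hS.fIsKernel⟩

variable (h₃ : D.Q S.X₃)

include hS h₃ in
lemma mem_imF (n : ℕ) : D.Q (imF Φ n) := mem_Q_image _ (Φ.mem n) h₃

/-- The filtration of the quotient. -/
def imFil : Fil D S.X₃ where
  F := imF Φ
  mem := mem_imF hS Φ h₃
  f := imf Φ
  mono := mono_imf Φ
  e := (nonempty_imF_zero hS Φ).some
  summable := Φ.summable.of_epi (fun n => Abelian.factorThruImage (Φ.j n ≫ S.g)) fun _ => inferInstance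
  quot n := by
    obtain ⟨α, β, w, h⟩ := shortExact_quot Φ n
    haveI := h.epi_g
    exact D.quot_P β (D.coker_Q _ (mem_imF hS Φ h₃ _) (mem_imF hS Φ h₃ _)) (Φ.quot n)

/-- The filtration of the kernel. -/
def keFil : Fil D S.X₁ where
  F := keF Φ
  mem n := D.ker_Q _ (Φ.mem n) (mem_imF hS Φ h₃ n)
  f := kef Φ
  mono := mono_kef Φ
  e := (nonempty_keF_zero hS Φ).some
  summable := Φ.summable.of_mono (fun n => kernel.ι _) fun _ => inferInstance
  quot n := by
    obtain ⟨α, β, w, h⟩ := shortExact_quot Φ n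
    haveI := h.mono_f
    exact D.sub_P α (D.coker_Q _ (D.ker_Q _ (Φ.mem _) (mem_imF hS Φ h₃ _)) (D.ker_Q _ (Φ.mem _) (mem_imF hS Φ h₃ _))) (Φ.quot n)

include hS in
lemma cl_gr_add : KZero.clSub D.P Φ.gr =
    KZero.clSub D.P (keFil hS Φ h₃).gr + KZero.clSub D.P (imFil hS Φ h₃).gr := by
  choose α β w h using fun n => shortExact_quot Φ n
  exact cl_add D.P (shortExact_sigma D (fun n => ShortComplex.mk (α n) (β n) (w n)) h)
    (keFil hS Φ h₃).mem_gr Φ.mem_gr (imFil hS Φ h₃).mem_gr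

end Induced

/-- The trivial filtration. -/
def trivFil {M : A} (hM : D.P M) : Fil D M where
  F n := if n = 0 then M else kernel (𝟙 M)
  mem n := by
    split
    · exact D.le _ hM
    · exact D.le _ (D.zero_P _ (isZero_kernel_of_mono _))
  f n := eqToHom (if_neg (Nat.succ_ne_zero n)) ≫ 0
  mono n := ⟨fun {Z} a b _ => (IsZero.of_iso (isZero_kernel_of_mono (𝟙 M))
    (eqToIso (if_neg (Nat.succ_ne_zero n)))).eq_of_tgt a b⟩
  e := eqToIso (if_pos rfl)
  summable t := ⟨1, fun n hn => D.zero_N t _ (IsZero.of_iso (isZero_kernel_of_mono (𝟙 M))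
    (eqToIso (if_neg (by omega))))⟩
  quot n := by
    have h1 : ∀ n : ℕ, D.P (if n = 0 then M else kernel (𝟙 M)) := fun n => by
      split
      · exact hM
      · exact D.zero_P _ (isZero_kernel_of_mono _)
    exact D.quot_P (cokernel.π _) (D.coker_Q _ (D.le _ (h1 _)) (D.le _ (h1 _))) (h1 n)

variable (D) in
/-- Dévissage. -/
theorem exists_equiv (hfil : ∀ G, D.Q G → Nonempty (Fil D G)) :
    ∃ φ : KZero.K0sub D.P ≃+ KZero.K0sub D.Q, ∀ M, D.P M → φ (KZero.clSub D.P M) = KZero.clSub D.Q M := by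
  classical
  let φ₀ : KZero.K0sub D.P →+ KZero.K0sub D.Q := QuotientAddGroup.lift _
    (FreeAbelianGroup.lift fun M : Subtype D.P => KZero.clSub D.Q M.1) ((AddSubgroup.closure_le _).2 (by
      rintro _ ⟨S, h₁, h₂, h₃, hS, rfl⟩
      rw [SetLike.mem_coe, AddMonoidHom.mem_ker, map_sub, map_sub, FreeAbelianGroup.lift_apply_of,
        FreeAbelianGroup.lift_apply_of, FreeAbelianGroup.lift_apply_of,
        cl_add D.Q hS (D.le _ h₁) (D.le _ h₂) (D.le _ h₃)]
      abel))
  have hφ₀ : ∀ M (hM : D.P M), φ₀ (KZero.clSub D.P M) = KZero.clSub D.Q M := fun M hM => by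
    rw [KZero.clSub, dif_pos hM]
    exact FreeAbelianGroup.lift_apply_of _ _
  let ψ₀ : KZero.K0sub D.Q →+ KZero.K0sub D.P := QuotientAddGroup.lift _
    (FreeAbelianGroup.lift fun G : Subtype D.Q => KZero.clSub D.P (hfil G.1 G.2).some.gr)
    ((AddSubgroup.closure_le _).2 (by
      rintro _ ⟨S, h₁, h₂, h₃, hS, rfl⟩
      rw [SetLike.mem_coe, AddMonoidHom.mem_ker, map_sub, map_sub, FreeAbelianGroup.lift_apply_of,
        FreeAbelianGroup.lift_apply_of, FreeAbelianGroup.lift_apply_of,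
        cl_gr_eq (hfil S.X₁ h₁).some (keFil hS (hfil S.X₂ h₂).some h₃),
        cl_gr_eq (hfil S.X₃ h₃).some (imFil hS (hfil S.X₂ h₂).some h₃), cl_gr_add hS (hfil S.X₂ h₂).some h₃]
      abel))
  have hψ₀ : ∀ G (hG : D.Q G), ψ₀ (KZero.clSub D.Q G) = KZero.clSub D.P (hfil G hG).some.gr := fun G hG => by
    rw [KZero.clSub, dif_pos hG]
    exact FreeAbelianGroup.lift_apply_of _ _
  have hPQ : ψ₀.comp φ₀ = AddMonoidHom.id _ := QuotientAddGroup.addMonoidHom_ext _
    (FreeAbelianGroup.lift_ext _ _ fun M => by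
      show ψ₀ (φ₀ (QuotientAddGroup.mk (FreeAbelianGroup.of M))) = QuotientAddGroup.mk (FreeAbelianGroup.of M)
      rw [show (QuotientAddGroup.mk (FreeAbelianGroup.of M) : KZero.K0sub D.P) = KZero.clSub D.P M.1 from
        by rw [KZero.clSub, dif_pos M.2], hφ₀ _ M.2, hψ₀ _ (D.le _ M.2),
        cl_gr_eq (hfil M.1 (D.le _ M.2)).some (trivFil M.2)]
      exact ((trivFil M.2).cl_gr D.P D.iso_P D.zero_P (fun n => by
        simp only [trivFil]
        split
        · exact M.2
        · exact D.zero_P _ (isZero_kernel_of_mono _))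
        (fun X hX hs => D.sum_P X hX hs) (trivFil M.2).mem_gr).symm)
  have hQP : φ₀.comp ψ₀ = AddMonoidHom.id _ := QuotientAddGroup.addMonoidHom_ext _
    (FreeAbelianGroup.lift_ext _ _ fun G => by
      show φ₀ (ψ₀ (QuotientAddGroup.mk (FreeAbelianGroup.of G))) = QuotientAddGroup.mk (FreeAbelianGroup.of G)
      rw [show (QuotientAddGroup.mk (FreeAbelianGroup.of G) : KZero.K0sub D.Q) = KZero.clSub D.Q G.1 from
        by rw [KZero.clSub, dif_pos G.2], hψ₀ _ G.2, hφ₀ _ (hfil G.1 G.2).some.mem_gr]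
      exact ((hfil G.1 G.2).some.cl_gr D.Q D.iso_Q (fun X h => D.le _ (D.zero_P X h)) (fun n => (hfil G.1 G.2).some.mem n)
        (fun X hX hs => D.sum_Q X hX hs) (D.le _ (hfil G.1 G.2).some.mem_gr)).symm)
  exact ⟨AddMonoidHom.toAddEquiv φ₀ ψ₀ hPQ hQP, hφ₀⟩

end Groth.Agent.K0Dev
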