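import Groth.Agent.K0Dev.Abstract
import Groth.Agent.SupportLib.Unit
import Groth.Agent.SupportLib.Ann
import Groth.Agent.GrothSS.ChangeRings
import Groth.Agent.ClSubLib.Support
import Groth.Agent.ClSubLib.EssSurj
import Groth.Agent.ClSubLib.AnnIdeal
import Groth.Agent.Devissage.Apply2
import Groth.Agent.CMFlat.RegImm
import Groth.Agent.K0Coh.Basic
import Groth.Agent.QC.Coherent
import Groth.Agent.W7Exist.Tricky

/-!
Dévissage along a closed immersion into a locally Noetherian scheme.
-/

set_option autoImplicit false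
set_option linter.unusedSectionVars false
set_option linter.style.haveILetI false
set_option backward.isDefEq.respectTransparency false
set_option backward.isDefEq.respectTransparency.types false

universe u

open CategoryTheory CategoryTheory.Limits AlgebraicGeometry TopologicalSpace Opposite

noncomputable section

attribute [local instance] Abelian.hasFiniteBiproducts

namespace Groth.Agent.K0Dev

variable {X Z : Scheme.{u}} (i : Z ⟶ X)

/-- The stalk as a functor. -/
abbrev St (x : X) : X.Modules ⥤ ModuleCat.{u} (X.presheaf.stalk x) := DerSch.stalkFunctor X x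

lemma isZero_st_sigma (x : X) (F : ℕ → X.Modules) (h : ∀ n, IsZero ((St x).obj (F n))) :
    IsZero ((St x).obj (∐ F)) := by
  have : PreservesColimitsOfSize.{0, 0} (St x) := preservesSmallestColimits_of_preservesColimits _
  have hc := isColimitOfPreserves (St x) (colimit.isColimit (Discrete.functor F))
  exact (IsZero.iff_id_eq_zero _).2 (hc.hom_ext fun j => (h j.as).eq_of_src _ _)

lemma isZero_iff_stalks (M : X.Modules) : IsZero M ↔ ∀ x : X, IsZero ((St x).obj M) :=
  ⟨fun h x => (St x).map_isZero h, fun h => Devissage.isZero_of_support (Set.eq_empty_of_forall_notMem fun x =>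
    (ClSubLib.notMem_support_iff_isZero M x).2 (h x))⟩

lemma mono_sigma_map (F G : ℕ → X.Modules) (φ : ∀ n, F n ⟶ G n) (h : ∀ n, Mono (φ n)) :
    Mono (Limits.Sigma.map φ) := by
  let κ := kernel.ι (Limits.Sigma.map φ)
  refine Preadditive.mono_of_isZero_kernel _ ((isZero_iff_stalks _).2 fun x => ?_)
  haveI : PreservesColimitsOfSize.{0, 0} (St x) := preservesSmallestColimits_of_preservesColimits _
  haveI : ∀ n, Mono ((St x).map (φ n)) := fun n => inferInstance
  haveI : Mono ((St x).map (Limits.Sigma.map φ)) := by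
    haveI : Mono (Limits.Sigma.map fun n => (St x).map (φ n)) := inferInstance
    have e : (St x).map (Limits.Sigma.map φ) = inv (sigmaComparison (St x) F) ≫
        (Limits.Sigma.map fun n => (St x).map (φ n)) ≫ sigmaComparison (St x) G := by
      rw [IsIso.eq_inv_comp]
      ext n
      simp [← Functor.map_comp]
    rw [e]; infer_instance
  exact (IsZero.iff_id_eq_zero _).2 ((cancel_mono ((St x).map κ)).1
    ((cancel_mono ((St x).map (Limits.Sigma.map φ))).1 (by simp [κ, ← Functor.map_comp])))

/-- Vanishing on an open. -/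
def VanishOn (U : X.Opens) : ObjectProperty X.Modules := fun M => ∀ x ∈ U, IsZero ((St x).obj M)

lemma isCoh_sigma [IsLocallyNoetherian X] (F : ℕ → X.Modules) (hF : ∀ n, Coh.IsCoh (F n))
    (hs : ∀ t : X.affineOpens, ∃ b, ∀ n, b ≤ n → VanishOn t.1 (F n)) : Coh.IsCoh (∐ F) := by
  refine K0Coh.isCoh_of_local fun x => ?_
  obtain ⟨V, hV, hxV, -⟩ := exists_isAffineOpen_mem_and_subset (U := (⊤ : X.Opens)) (x := x) trivial
  obtain ⟨b, hb⟩ := hs ⟨V, hV⟩
  refine ⟨V, hxV, ?_⟩
  let R := Scheme.Modules.restrictFunctor V.ι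
  haveI : PreservesColimitsOfSize.{u, u} R := inferInstance
  haveI : PreservesColimitsOfSize.{0, 0} R := preservesSmallestColimits_of_preservesColimits _
  have hz : ∀ n, b ≤ n → IsZero (R.obj (F n)) := fun n hn => by
    refine (isZero_iff_stalks _).2 fun v => (ClSubLib.notMem_support_iff_isZero _ v).1 fun hv => ?_
    have h1 := (ClSubLib.notMem_support_iff_isZero (F n) (V.ι v)).2 (hb n hn _ (by exact v.2))
    exact (ClSubLib.support_pullback_subset V.ι (F n)).trans (fun w hw => hw)
      (by rwa [← ClSubLib.support_congr ((Scheme.Modules.restrictFunctorIsoPullback V.ι).app (F n))]) |> h1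
  let B := ⨁ fun j : Fin b => R.obj (F j)
  have hB : Coh.IsCoh B := Devissage.isCoh_biproduct _ fun j => ⟨QC.isQCoh_restrict V.ι (hF j).1, QC.isFT_restrict V.ι (hF j).2⟩
  let e : (∐ fun n => R.obj (F n)) ≅ B :=
    { hom := Sigma.desc fun n => if h : n < b then biproduct.ι (fun j : Fin b => R.obj (F j)) ⟨n, h⟩ else 0
      inv := biproduct.desc fun j => Sigma.ι (fun n => R.obj (F n)) j
      hom_inv_id := by
        refine Sigma.hom_ext _ _ fun n => ?_
        by_cases h : n < b
        · simp [h]
        · exact (hz n (not_lt.1 h)).eq_of_src _ _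
      inv_hom_id := by
        refine biproduct.hom_ext' _ _ fun j => ?_
        simp only [biproduct.ι_desc_assoc, Sigma.ι_desc, dif_pos j.2]
        exact (Category.comp_id _).symm }
  exact K0Coh.isCoh_of_iso ((PreservesCoproduct.iso R F) ≪≫ e).symm hB

variable [IsClosedImmersion i]

/-- `i_* i^*`. -/
abbrev ii : X.Modules ⥤ X.Modules := Scheme.Modules.pullback i ⋙ Scheme.Modules.pushforward i

/-- The unit. -/
abbrev un : 𝟭 X.Modules ⟶ ii i := (Scheme.Modules.pullbackPushforwardAdjunction i).unit

lemma isZero_push_st (N : Z.Modules) {x : X} (hx : x ∉ Set.range i) :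
    IsZero ((St x).obj ((Scheme.Modules.pushforward i).obj N)) :=
  haveI := KFlat.subsingleton_stalk_push i N hx
  (ClSubLib.notMem_support_iff_isZero _ x).1 (not_not.2 this)

/-- Supported on the image. -/
abbrev Supp : ObjectProperty X.Modules := fun G => Coh.IsCoh G ∧ ∀ x : X, Nontrivial (G.presheaf.stalk x) → x ∈ Set.range ⇑i

/-- Killed by the ideal. -/
def Killed : ObjectProperty X.Modules := fun G => Supp i G ∧ IsIso ((un i).app G)

lemma supp_iff {G : X.Modules} (hG : Coh.IsCoh G) :
    Supp i G ↔ ∀ x : X, x ∉ Set.range i → IsZero ((St x).obj G) := by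
  constructor
  · intro h x hx
    exact (ClSubLib.notMem_support_iff_isZero G x).1 (not_not.2 (not_nontrivial_iff_subsingleton.1 fun hn => hx (h.2 x hn)))
  · intro h
    refine ⟨hG, fun x hn => by_contra fun hx => ?_⟩
    exact not_subsingleton _ (not_not.1 ((ClSubLib.notMem_support_iff_isZero G x).2 (h x hx)))

lemma epi_unit (G : X.Modules) : Epi ((un i).app G) := by
  refine Preadditive.epi_of_isZero_cokernel _ ((isZero_iff_stalks _).2 fun x => ?_)
  haveI : Epi ((St x).map (cokernel.π ((un i).app G))) := inferInstance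
  by_cases hx : x ∈ Set.range i
  · obtain ⟨y, rfl⟩ := hx
    have hs : Function.Surjective ((St (i y)).map ((un i).app G)).hom := fun z => by
      obtain ⟨m, hm⟩ := GrothSS.kap_surjective i y G (KFlat.pushStalk i y _ z)
      exact ⟨m, (KFlat.pushStalk_bijective i y _).1 ((SupportLib.pushStalk_unit i G y m).trans hm)⟩
    haveI : Epi ((St (i y)).map ((un i).app G)) := (ModuleCat.epi_iff_surjective _).2 hs
    exact (IsZero.iff_id_eq_zero _).2 ((cancel_epi ((St (i y)).map (cokernel.π ((un i).app G)))).1
      ((cancel_epi ((St (i y)).map ((un i).app G))).1 (by simp [← Functor.map_comp_assoc, ← Functor.map_comp])))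
  · exact IsZero.of_epi ((St x).map (cokernel.π ((un i).app G))) (isZero_push_st i _ hx)

lemma killed_iff {G : X.Modules} : IsIso ((un i).app G) ↔ ClSub.KilledByIdeal i.ker G :=
  SupportLib.isIso_unit_iff i G

lemma isIso_unit_sigma (F : ℕ → X.Modules) (h : ∀ n, IsIso ((un i).app (F n))) : IsIso ((un i).app (∐ F)) := by
  haveI := GrothSS.preservesColimits_push i
  haveI : PreservesColimitsOfSize.{u, u} (Scheme.Modules.pullback i) :=
    (Scheme.Modules.pullbackPushforwardAdjunction i).leftAdjoint_preservesColimits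
  haveI : PreservesColimitsOfSize.{0, 0} (ii i) := preservesSmallestColimits_of_preservesColimits _
  have e : (un i).app (∐ F) = (Limits.Sigma.map fun n => (un i).app (F n)) ≫ sigmaComparison (ii i) F := by
    refine Sigma.hom_ext _ _ fun n => ?_
    rw [← Category.assoc (Sigma.ι F n), Limits.Sigma.ι_map, Category.assoc, ι_comp_sigmaComparison]
    exact (un i).naturality (Sigma.ι F n)
  rw [e]
  haveI : IsIso (Limits.Sigma.map fun n => (un i).app (F n)) :=
    inferInstanceAs (IsIso (Limits.Sigma.mapIso fun n => asIso ((un i).app (F n))).hom)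
  infer_instance

omit [IsClosedImmersion i] in
lemma isIso_unit_of_iso {M G : X.Modules} (e : M ≅ G) (h : IsIso ((un i).app M)) : IsIso ((un i).app G) := by
  have h1 : (un i).app G = e.inv ≫ (un i).app M ≫ (ii i).map e.hom := by
    rw [← (un i).naturality e.hom]
    simp
  rw [h1]; infer_instance

lemma isIso_unit_push (N : Z.Modules) : IsIso ((un i).app ((Scheme.Modules.pushforward i).obj N)) := by
  haveI := GrothSS.isIso_counit_push i
  have h := (Scheme.Modules.pullbackPushforwardAdjunction i).right_triangle_components N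
  exact IsIso.of_isIso_fac_right h

/-- The stalk of the kernel of the unit. -/
lemma mem_smul_of_kap_eq_zero (G : X.Modules) (y : Z) (m : ((St (i y)).obj G : Type u))
    (h : KFlat.kap i y G m = 0) :
    m ∈ RingHom.ker (i.stalkMap y).hom • (⊤ : Submodule (X.presheaf.stalk (i y)) ((St (i y)).obj G)) := by
  let S : Submodule (X.presheaf.stalk (i y)) ((St (i y)).obj G) := RingHom.ker (i.stalkMap y).hom • ⊤
  obtain ⟨inst, hinst⟩ := SupportLib.exists_module_of_surjective (i.stalkMap y).hom (i.stalkMap_surjective y)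
    (((St (i y)).obj G) ⧸ S) (fun a ha q => by
      obtain ⟨q, rfl⟩ := Submodule.Quotient.mk_surjective S q
      rw [← Submodule.Quotient.mk_smul, Submodule.Quotient.mk_eq_zero]
      exact Submodule.smul_mem_smul (RingHom.mem_ker.2 ha) trivial)
  letI := inst
  let P : ModuleCat.{u} (Z.presheaf.stalk y) := ModuleCat.of _ (((St (i y)).obj G) ⧸ S)
  let h0 : (St (i y)).obj G ⟶ (ModuleCat.restrictScalars (i.stalkMap y).hom).obj P :=
    ModuleCat.ofHom (Y := (ModuleCat.restrictScalars (i.stalkMap y).hom).obj P)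
      { toFun := fun q => (show (ModuleCat.restrictScalars (i.stalkMap y).hom).obj P from Submodule.Quotient.mk q)
        map_add' := fun _ _ => rfl
        map_smul' := fun a q => (hinst a (Submodule.Quotient.mk q)).symm }
  obtain ⟨g, hg⟩ := KFlat.exists_pull_stalk_desc i y G h0
  have h1 := hg m
  rw [h, map_zero] at h1
  exact (Submodule.Quotient.mk_eq_zero S).1 h1.symm

/-- The steps. -/
def steps (G : X.Modules) : ℕ → X.Modules
  | 0 => G
  | n + 1 => kernel ((un i).app (steps G n))

/-- The maps between the steps. -/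
abbrev stepf (G : X.Modules) (n : ℕ) : steps i G (n + 1) ⟶ steps i G n := kernel.ι _

/-- The inclusions of the steps. -/
def stepj (G : X.Modules) : ∀ n, steps i G n ⟶ G
  | 0 => 𝟙 _
  | n + 1 => stepf i G n ≫ stepj G n

lemma mono_stepj (G : X.Modules) : ∀ n, Mono (stepj i G n)
  | 0 => inferInstanceAs (Mono (𝟙 G))
  | n + 1 => haveI := mono_stepj G n; inferInstanceAs (Mono (stepf i G n ≫ stepj i G n))

lemma stepj_mem (G : X.Modules) (y : Z) : ∀ (n : ℕ) (m : ((St (i y)).obj (steps i G n) : Type u)),
    ((St (i y)).map (stepj i G n)).hom m ∈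
      RingHom.ker (i.stalkMap y).hom ^ n • (⊤ : Submodule (X.presheaf.stalk (i y)) ((St (i y)).obj G))
  | 0, m => by simp
  | n + 1, m => by
    have h0 : ((St (i y)).map ((un i).app (steps i G n))).hom (((St (i y)).map (stepf i G n)).hom m) = 0 := by
      have h := congrArg (fun φ => ((St (i y)).map φ).hom m) (kernel.condition ((un i).app (steps i G n)))
      simp only [Functor.map_comp, Functor.map_zero] at h
      exact h
    have h1 : KFlat.kap i y (steps i G n) (((St (i y)).map (stepf i G n)).hom m) = 0 :=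
      (SupportLib.pushStalk_unit i (steps i G n) y _).symm.trans ((congrArg _ h0).trans (map_zero _))
    have h2 := mem_smul_of_kap_eq_zero i (steps i G n) y _ h1
    have h3 := Submodule.mem_map_of_mem (f := ((St (i y)).map (stepj i G n)).hom) h2
    rw [Submodule.map_smul''] at h3
    have h4 : ((St (i y)).map (stepj i G (n + 1))).hom m =
        ((St (i y)).map (stepj i G n)).hom (((St (i y)).map (stepf i G n)).hom m) := by
      have h : (St (i y)).map (stepj i G (n + 1)) = (St (i y)).map (stepf i G n) ≫ (St (i y)).map (stepj i G n) :=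
        Functor.map_comp _ _ _
      rw [h]; rfl
    rw [h4, pow_succ', Submodule.mul_smul]
    refine Submodule.smul_mono le_rfl ?_ h3
    rintro _ ⟨q, -, rfl⟩
    exact stepj_mem G y n q

variable [IsLocallyNoetherian X]

lemma germ_smul_eq_zero {G : X.Modules} (hG : Coh.IsQCoh G) {U : X.Opens} (hU : IsAffineOpen U) {x : X} (hx : x ∈ U)
    {a : Γ(X, U)} (ha : a ∈ SupportLib.annAt G U) (z : G.presheaf.stalk x) :
    (X.presheaf.germ U x hx).hom a • z = 0 := by
  obtain ⟨g, hg⟩ := LocFree.exists_stalkMap hU hG hx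
  letI := Module.compHom (G.presheaf.stalk x) (X.presheaf.germ U x hx).hom
  haveI := hg
  obtain ⟨⟨q, s⟩, hqs⟩ := IsLocalizedModule.surj (hU.primeIdealOf ⟨x, hx⟩).asIdeal.primeCompl g z
  refine IsLocalizedModule.smul_injective g s ?_
  show (s : Γ(X, U)) • (a • z) = (s : Γ(X, U)) • (0 : G.presheaf.stalk x)
  rw [smul_zero, smul_comm, show (s : Γ(X, U)) • z = g q from hqs, ← map_smul, Module.mem_annihilator.1 ha q, map_zero]

lemma exists_vanish_step {G : X.Modules} (hG : Supp i G) (U : X.affineOpens) :
    ∃ b, ∀ n, b ≤ n → VanishOn U.1 (steps i G n) := by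
  haveI : Coh.IsQCoh G := hG.1.1
  obtain ⟨b, hb⟩ := SupportLib.exists_pow_le_annAt G hG.1.2 i.ker (fun x hx => by
    rw [Scheme.Hom.support_ker]
    exact subset_closure (hG.2 x (not_subsingleton_iff_nontrivial.1 hx))) U
  refine ⟨b, fun n hn x hx => ?_⟩
  haveI := mono_stepj i G n
  by_cases hr : x ∈ Set.range i
  · obtain ⟨y, rfl⟩ := hr
    refine IsZero.of_mono_eq_zero ((St (i y)).map (stepj i G n)) (ModuleCat.hom_ext (LinearMap.ext fun m => ?_))
    have h0 := Submodule.smul_mono (Ideal.pow_le_pow_right hn) le_rfl (stepj_mem i G y n m)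
    have hbot : RingHom.ker (i.stalkMap y).hom ^ b • (⊤ : Submodule (X.presheaf.stalk (i y)) ((St (i y)).obj G)) ≤ ⊥ := by
      rw [CMFlat.ker_stalkMap_eq i y U hx, ← Ideal.map_pow, Ideal.map, Ideal.span, Submodule.smul_le]
      intro r hr z _
      rw [Submodule.mem_bot]
      induction hr using Submodule.span_induction with
      | mem r hr =>
        obtain ⟨a, ha, rfl⟩ := hr
        rw [← Scheme.Hom.ker_apply] at ha
        exact germ_smul_eq_zero hG.1.1 U.2 hx (hb ha) z
      | zero => rw [zero_smul]
      | add r s _ _ h1 h2 => rw [add_smul, h1, h2, add_zero]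
      | smul c r _ h1 => rw [smul_eq_mul, mul_smul, h1, smul_zero]
    exact (Submodule.mem_bot _).1 (hbot h0)
  · exact IsZero.of_mono ((St x).map (stepj i G n)) ((supp_iff i hG.1).1 hG x hr)

/-- The setup for a closed immersion. -/
def setup : Setup X.Modules X.affineOpens where
  P := Killed i
  Q := Supp i
  N t := VanishOn t.1
  le _ h := h.1
  iso_P _ _ e h := ⟨(supp_iff i (K0Coh.isCoh_of_iso e h.1.1)).2 fun x hx =>
    ((supp_iff i h.1.1).1 h.1 x hx).of_iso ((St x).mapIso e).symm, isIso_unit_of_iso i e h.2⟩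
  iso_Q _ _ e h := (supp_iff i (K0Coh.isCoh_of_iso e h.1)).2 fun x hx =>
    ((supp_iff i h.1).1 h x hx).of_iso ((St x).mapIso e).symm
  zero_P G h := ⟨(supp_iff i (K0Coh.isCoh_of_isZero h)).2 fun x _ => (St x).map_isZero h,
    isIso_of_source_target_iso_zero _ h.isoZero ((ii i).map_isZero h).isoZero⟩
  ker_Q _ _ f h h' := (supp_iff i (QC.isCoh_kernel h.1 h'.1.1 f)).2 fun x hx =>
    IsZero.of_mono ((St x).map (kernel.ι f)) ((supp_iff i h.1).1 h x hx)
  coker_Q _ _ f h h' := (supp_iff i (QC.isCoh_cokernel h.1.1 h'.1 f)).2 fun x hx =>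
    IsZero.of_epi ((St x).map (cokernel.π f)) ((supp_iff i h'.1).1 h' x hx)
  pull_Q := fun M N G f g hM hN hG => by
    let d : M ⊞ N ⟶ G := biprod.desc f (-g)
    let e : kernel d ≅ pullback f g :=
      { hom := pullback.lift (kernel.ι d ≫ biprod.fst) (kernel.ι d ≫ biprod.snd) (by
          rw [Category.assoc, Category.assoc, ← sub_eq_zero, ← Preadditive.comp_sub,
            show biprod.fst ≫ f - biprod.snd ≫ g = d by apply biprod.hom_ext' <;> simp [d],
            kernel.condition])
        inv := kernel.lift d (biprod.lift (pullback.fst f g) (pullback.snd f g)) (by simp [d, pullback.condition])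
        hom_inv_id := by
          refine (cancel_mono (kernel.ι d)).1 ?_
          apply biprod.hom_ext <;> simp
        inv_hom_id := by apply pullback.hom_ext <;> simp }
    haveI : Coh.IsQCoh M := hM.1.1
    have hB : Coh.IsCoh (M ⊞ N) := W7Exist.isCoh_biprod hM.1 hN.1
    refine (supp_iff i (K0Coh.isCoh_of_iso e (QC.isCoh_kernel hB hG.1.1 d))).2 fun x hx => ?_
    haveI : Mono (biprod.lift (pullback.fst f g) (pullback.snd f g)) :=
      ⟨fun a b h => pullback.hom_ext (by simpa using h =≫ biprod.fst) (by simpa using h =≫ biprod.snd)⟩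
    refine IsZero.of_mono ((St x).map (biprod.lift (pullback.fst f g) (pullback.snd f g))) ?_
    exact (IsZero.iff_id_eq_zero _).2 (by
      rw [← CategoryTheory.Functor.map_id, ← biprod.total, Functor.map_add, Functor.map_comp, Functor.map_comp,
        ((supp_iff i hM.1).1 hM x hx).eq_of_tgt ((St x).map biprod.fst) 0,
        ((supp_iff i hN.1).1 hN x hx).eq_of_tgt ((St x).map biprod.snd) 0, zero_comp, zero_comp, add_zero])
  sub_P := fun M G f _ hM hG => ⟨hM, by
    haveI := hG.2
    haveI : Mono ((un i).app M ≫ (ii i).map f) := by rw [← (un i).naturality f]; exact mono_comp f _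
    haveI : Mono ((un i).app M) := mono_of_mono _ ((ii i).map f)
    haveI := epi_unit i M
    exact isIso_of_mono_of_epi _⟩
  quot_P := fun M G f _ hG hM => ⟨hG, (killed_iff i).2 fun U a ha s => by
    obtain ⟨s', hs'⟩ := QC.app_surjective_of_epi U.2 hM.1.1.1 hG.1.1 f s
    rw [← hs', ← Scheme.Modules.Hom.app_smul]
    exact (congrArg (f.app U.1) ((killed_iff i).1 hM.2 U a ha s')).trans (map_zero _)⟩
  zero_N _ _ h x _ := (St x).map_isZero h
  sub_N _ _ _ f _ h x hx := IsZero.of_mono ((St x).map f) (h x hx)
  quot_N _ _ _ f _ h x hx := IsZero.of_epi ((St x).map f) (h x hx)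
  sum_N _ F _ h x hx := isZero_st_sigma x F fun n => h n x hx
  sum_Q F _ h hs := (supp_iff i (isCoh_sigma F (fun n => (h n).1) hs)).2 fun x hx =>
    isZero_st_sigma x F fun n => (supp_iff i (h n).1).1 (h n) x hx
  sum_P F _ h hs := ⟨(supp_iff i (isCoh_sigma F (fun n => (h n).1.1) hs)).2 fun x hx =>
    isZero_st_sigma x F fun n => (supp_iff i (h n).1.1).1 (h n).1 x hx, isIso_unit_sigma i F fun n => (h n).2⟩
  mono_map F G _ _ φ h := mono_sigma_map F G φ h

lemma supp_push {N : Z.Modules} (hN : Coh.IsCoh N) : Supp i ((Scheme.Modules.pushforward i).obj N) := by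
  haveI : Coh.IsQCoh N := hN.1
  exact (supp_iff i (QC.isCoh_pushforward_of_isFinite i hN.2)).2 fun x hx => isZero_push_st i N hx

lemma supp_ii {G : X.Modules} (hG : Coh.IsCoh G) : Supp i ((ii i).obj G) :=
  supp_push i (QC.isCoh_pullback i hG)

lemma supp_steps {G : X.Modules} (hG : Supp i G) : ∀ n, Supp i (steps i G n)
  | 0 => hG
  | n + 1 => (setup i).ker_Q _ (supp_steps hG n) (supp_ii i (supp_steps hG n).1)

/-- The adic filtration. -/
def adicFil {G : X.Modules} (hG : Supp i G) : Fil (setup i) G where
  F := steps i G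
  mem := supp_steps i hG
  f := stepf i G
  mono _ := inferInstance
  e := Iso.refl _
  summable := exists_vanish_step i hG
  quot n := by
    haveI := epi_unit i (steps i G n)
    have hc := (supp_steps i hG n).1
    refine (setup i).iso_P (IsColimit.coconePointUniqueUpToIso (Abelian.epiIsCokernelOfKernel
      (KernelFork.ofι _ (kernel.condition ((un i).app (steps i G n)))) (kernelIsKernel _)) (colimit.isColimit (parallelPair (stepf i G n) 0)))
      ⟨supp_ii i hc, isIso_unit_push i _⟩

/-- Dévissage along a closed immersion. -/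
theorem exists_equiv_closed : ∃ φ : KZero.K0sub (fun F : Z.Modules => Coh.IsCoh F) ≃+ KZero.K0sub (Supp i),
    ∀ F : Z.Modules, Coh.IsCoh F → φ (KZero.clSub (fun F : Z.Modules => Coh.IsCoh F) F) =
      KZero.clSub (Supp i) ((Scheme.Modules.pushforward i).obj F) := by
  classical
  obtain ⟨φ, hφ⟩ := exists_equiv (setup i) fun G hG => ⟨adicFil i hG⟩
  let R : ObjectProperty Z.Modules := fun F : Z.Modules => Coh.IsCoh F
  let P : ObjectProperty X.Modules := Killed i
  let push := Scheme.Modules.pushforward i
  let pull := Scheme.Modules.pullback i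
  haveI := GrothSS.preservesFiniteLimits_push i
  haveI := GrothSS.preservesFiniteColimits_push i
  haveI := GrothSS.isIso_counit_push i
  have hpush : ∀ {F : Z.Modules}, Coh.IsCoh F → P (push.obj F) := fun h => ⟨supp_push i h, isIso_unit_push i _⟩
  haveI : push.Faithful := ((Scheme.Modules.pullbackPushforwardAdjunction i).fullyFaithfulROfIsIsoCounit).faithful
  let α₀ : KZero.K0sub R →+ KZero.K0sub P := QuotientAddGroup.lift _
    (FreeAbelianGroup.lift fun F : Subtype R => KZero.clSub P (push.obj F.1)) ((AddSubgroup.closure_le _).2 (by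
      rintro _ ⟨S, h₁, h₂, h₃, hS, rfl⟩
      rw [SetLike.mem_coe, AddMonoidHom.mem_ker, map_sub, map_sub, FreeAbelianGroup.lift_apply_of,
        FreeAbelianGroup.lift_apply_of, FreeAbelianGroup.lift_apply_of]
      have := cl_add P (hS.map_of_exact push) (hpush h₁) (hpush h₂) (hpush h₃)
      rw [show KZero.clSub P (push.obj S.X₂) = _ from this]
      exact (by intro a b; abel : ∀ a b : KZero.K0sub P, a + b - a - b = 0) _ _))
  have hα : ∀ F (hF : R F), α₀ (KZero.clSub R F) = KZero.clSub P (push.obj F) := fun F hF => by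
    rw [KZero.clSub, dif_pos hF]
    exact FreeAbelianGroup.lift_apply_of _ _
  let β₀ : KZero.K0sub P →+ KZero.K0sub R := QuotientAddGroup.lift _
    (FreeAbelianGroup.lift fun G : Subtype P => KZero.clSub R (pull.obj G.1)) ((AddSubgroup.closure_le _).2 (by
      rintro _ ⟨S, h₁, h₂, h₃, hS, rfl⟩
      rw [SetLike.mem_coe, AddMonoidHom.mem_ker, map_sub, map_sub, FreeAbelianGroup.lift_apply_of,
        FreeAbelianGroup.lift_apply_of, FreeAbelianGroup.lift_apply_of]
      haveI := h₁.2
      haveI := h₂.2
      haveI := h₃.2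
      have e : S ≅ S.map (pull ⋙ push) :=
        ShortComplex.isoMk (asIso ((un i).app S.X₁)) (asIso ((un i).app S.X₂)) (asIso ((un i).app S.X₃))
          ((un i).naturality S.f).symm ((un i).naturality S.g).symm
      have h' : ((S.map pull).map push).ShortExact := ShortComplex.shortExact_of_iso e hS
      have h'' : (S.map pull).ShortExact :=
        { exact := (ShortComplex.exact_map_iff_of_faithful _ push).1 h'.exact
          mono_f := push.mono_of_mono_map h'.mono_f
          epi_g := push.epi_of_epi_map h'.epi_g }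
      have := cl_add R h'' (QC.isCoh_pullback i h₁.1.1) (QC.isCoh_pullback i h₂.1.1) (QC.isCoh_pullback i h₃.1.1)
      rw [show KZero.clSub R (pull.obj S.X₂) = _ from this]
      exact (by intro a b; abel : ∀ a b : KZero.K0sub R, a + b - a - b = 0) _ _))
  have hβ : ∀ G (hG : P G), β₀ (KZero.clSub P G) = KZero.clSub R (pull.obj G) := fun G hG => by
    rw [KZero.clSub, dif_pos hG]
    exact FreeAbelianGroup.lift_apply_of _ _
  have hba : β₀.comp α₀ = AddMonoidHom.id _ := QuotientAddGroup.addMonoidHom_ext _
    (FreeAbelianGroup.lift_ext _ _ fun F => by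
      show β₀ (α₀ (QuotientAddGroup.mk (FreeAbelianGroup.of F))) = QuotientAddGroup.mk (FreeAbelianGroup.of F)
      rw [show (QuotientAddGroup.mk (FreeAbelianGroup.of F) : KZero.K0sub R) = KZero.clSub R F.1 from
        by rw [KZero.clSub, dif_pos F.2], hα _ F.2, hβ _ (hpush F.2)]
      exact cl_iso (fun _ _ e h => K0Coh.isCoh_of_iso e h)
        (fun _ h => haveI := LocallyOfFiniteType.isLocallyNoetherian i; K0Coh.isCoh_of_isZero h)
        ((asIso (Scheme.Modules.pullbackPushforwardAdjunction i).counit).app F.1))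
  have hab : α₀.comp β₀ = AddMonoidHom.id _ := QuotientAddGroup.addMonoidHom_ext _
    (FreeAbelianGroup.lift_ext _ _ fun G => by
      show α₀ (β₀ (QuotientAddGroup.mk (FreeAbelianGroup.of G))) = QuotientAddGroup.mk (FreeAbelianGroup.of G)
      haveI := G.2.2
      rw [show (QuotientAddGroup.mk (FreeAbelianGroup.of G) : KZero.K0sub P) = KZero.clSub P G.1 from
        by rw [KZero.clSub, dif_pos G.2], hβ _ G.2, hα _ (QC.isCoh_pullback i G.2.1.1)]
      exact cl_iso (setup i).iso_P (setup i).zero_P (asIso ((un i).app G.1)).symm)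
  refine ⟨(AddMonoidHom.toAddEquiv α₀ β₀ hba hab).trans φ, fun F hF => ?_⟩
  show φ (α₀ (KZero.clSub R F)) = _
  rw [hα F hF]
  exact hφ _ (hpush hF)

end Groth.Agent.K0Dev
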